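import Cfsg.Agent.F4L.ModQ
import Cfsg.Agent.F4L.ModG

/-!
Model groups for the 3-centralisers of type `U₆(2)`, `F₄(2)`.

* `Hs`: the Heisenberg group `3^(1+4)`; `e (w₁ + 9 w₂ + 81 k)` is the pair `(w₁ + w₂, k)` with
  `wᵢ = x + 3 y` coding `x aᵢ + y bᵢ`; `(w,k)(w',k') = (w+w', k+k'+2ω(w,w'))`, `ω(aᵢ,bᵢ) = 1`.
  So `a₁ = e 1`, `b₁ = e 3`, `a₂ = e 9`, `b₂ = e 27`, `z = e 81`.
* `Ga`: the group `GL₂(3) wr 2 ∩ GSp₄(3)` of order 2304; `e (a + 24 b + 576 (ε + 2 s))` is
  `(A, B) d^ε σ^s` with `A, B ∈ SL₂(3)` numbered `a = q + 8 c` for `Q[q] u^c`,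
  `Q = [1, -1, i, -i, j, -j, k, -k]`, `u : a ↦ a, b ↦ a + b`, `d = (diag(1,-1), diag(1,-1))`,
  `σ` the swap of the two planes.
* `ac γ v`: the action `(w, k) ↦ (γ w, μ k)`.
-/

set_option autoImplicit false
set_option maxRecDepth 100000

namespace Cfsg.Agent.F4L

open Subgroup Cfsg.Agent.Comp Cfsg.Agent.X32.TG Cfsg.Agent.Loc3.Pr
open Cfsg.Agent.X32 (TG Tab)
open Cfsg.Agent.PS4 (t8 t16 ok_of_chkA sd ok_sd)

noncomputable def av9 : ℕ → ℕ → ℕ := t8 (nat_lit 0x30801040602050700060402080301070500010506070203040800020703050106080400070104020508030600050208010704060300080607030405010200040305060807020100080103020406050700040206010803070500050601030702040800070302060501080400010407080205030600020805040107060300060708050304010200030504070608020100010308060204050700020604030108070500060105020307040800030207010605080400040701050802030600080502070401060300070806040503010200050403080706020100040602030801050700080301060402070500070203010506040800050106020703080400020508070104030600010704050208060300030405080607010200060807040305020100020406080103050700010803040206070500030702050601040800060501070302080400080205010407030600040107020805060300050304060708010200070608030504020100060204010308050700030108020604070500020307060105040800010605030207080400050802040701030600070401080502060300040503070806010200080706050403020100)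 (nat_lit 9)

noncomputable def acN (g v : ℕ) : ℕ := force g fun g => force v fun v =>
  force (Nat.mod (Nat.div g 576) 2) fun ε => force (Nat.mod v 9) fun a =>
  force (Nat.mod (Nat.div v 9) 9) fun b => Nat.add (Nat.add
    (av9 (Nat.add (Nat.mod g 24) (Nat.mul 24 ε)) (ite' (Nat.blt g 1152) a b))
    (Nat.mul 9 (av9 (Nat.add (Nat.mod (Nat.div g 24) 24) (Nat.mul 24 ε))
      (ite' (Nat.blt g 1152) b a))))
    (Nat.mul 81 (Nat.mod (Nat.mul (Nat.succ ε) (Nat.div v 81)) 3))

noncomputable def ac (g : Ga) (v : Hs) : Hs := e (acN g.v v.v)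

instance evAc (g : Ga) (v : Hs) {a b : ℕ} [EV g a] [EV v b] :
    EV (ac g v) (Nat.mod (acN a b) TQ.n) := ⟨by rw [← EV.h (a := g), ← EV.h (a := v)]; rfl⟩

theorem gen_Ga : closure {g : Ga | g ∈ (es [8, 2, 576, 1152] : List Ga)} = ⊤ := by
  have m : ∀ k ∈ (es [8, 2, 576, 1152] : List Ga), k ∈ closure {g : Ga | g ∈ (es [8, 2, 576, 1152] :
    List Ga)} := fun k hk => subset_closure hk
  generalize Subgroup.closure (G := Ga) _ = H at m ⊢
  have a := m (e 8) bd!
  have b := m (e 2) bd!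
  have s := m (e 1152) bd!
  have h1 : ∀ k : Ga, k.v < 24 → k ∈ H := fun k hk => by
    obtain ⟨x, hx, y, hy, z, hz, rfl⟩ := (bd! : ∀ k : Ga, k.v < 24 → ∃ x ∈ [1, e 2, e 2 * e 2, (e 2)⁻¹],
      ∃ y ∈ [1, e 8 * e 2 * (e 8)⁻¹], ∃ z ∈ [1, e 8, (e 8)⁻¹], k = x * y * z) k hk
    simp only [List.mem_cons, List.not_mem_nil, or_false] at hx hy hz
    refine mul_mem (mul_mem ?_ ?_) ?_
    · rcases hx with rfl | rfl | rfl | rfl
      exacts [one_mem _, b, mul_mem b b, inv_mem b]
    · rcases hy with rfl | rfl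
      exacts [one_mem _, mul_mem (mul_mem a b) (inv_mem a)]
    · rcases hz with rfl | rfl | rfl
      exacts [one_mem _, a, inv_mem a]
  refine top_le_iff.1 fun k _ => ?_
  obtain ⟨c, d, z, hz, f⟩ := (bd! : ∀ k : Ga, (e (Nat.mod k.v 24) : Ga).v < 24 ∧
    (e (Nat.mod (Nat.div k.v 24) 24) : Ga).v < 24 ∧ ∃ z ∈ [1, e 576, e 1152, e 576 * e 1152],
      k = e (Nat.mod k.v 24) * (e 1152 * e (Nat.mod (Nat.div k.v 24) 24) * e 1152) * z) k
  rw [f]
  refine mul_mem (mul_mem (h1 _ c) (mul_mem (mul_mem s (h1 _ d)) s)) ?_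
  simp only [List.mem_cons, List.not_mem_nil, or_false] at hz
  rcases hz with rfl | rfl | rfl | rfl
  exacts [one_mem _, m _ bd!, s, mul_mem (m _ bd!) s]

theorem ac_one : ∀ v, ac 1 v = v := bd!

theorem dec3 {x y z : ℕ} (hx : x < 9) (hy : y < 9) : (x + 9 * y + 81 * z) % 9 = x ∧
    (x + 9 * y + 81 * z) / 9 % 9 = y ∧ (x + 9 * y + 81 * z) / 81 = z := by omega

theorem tab9 : (∀ a < 9, ∀ b < 9, ad9 a b < 9) ∧ ∀ m < 48, ∀ a < 9, av9 m a < 9 ∧ ∀ b < 9,
    av9 m (ad9 a b) = ad9 (av9 m a) (av9 m b) ∧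
      om9 (av9 m a) (av9 m b) = (m / 24 + 1) * om9 a b % 3 := by decide +kernel

theorem mu_eq (x y : ℕ) : TQ.mu x y = ad9 (x % 9) (y % 9) + 9 * ad9 (x / 9 % 9) (y / 9 % 9) +
    81 * ((x / 81 + y / 81 + (om9 (x % 9) (y % 9) + om9 (x / 9 % 9) (y / 9 % 9))) % 3) := by
  simp only [TQ, force_eq]; rfl

theorem acN_eq (g v : ℕ) : acN g v = av9 (g % 24 + 24 * (g / 576 % 2))
    (if g < 1152 then v % 9 else v / 9 % 9) + 9 * av9 (g / 24 % 24 + 24 * (g / 576 % 2))
      (if g < 1152 then v / 9 % 9 else v % 9) + 81 * ((g / 576 % 2 + 1) * (v / 81) % 3) := by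
  simp only [acN, force_eq, ite'_eq, blt_iff]; rfl

theorem acN_lt (g v : ℕ) : acN g v < 243 := by
  have a := (tab9.2 (g % 24 + 24 * (g / 576 % 2)) (by omega) (if g < 1152 then v % 9 else v / 9 % 9)
    (by split_ifs <;> omega)).1
  have b := (tab9.2 (g / 24 % 24 + 24 * (g / 576 % 2)) (by omega)
    (if g < 1152 then v / 9 % 9 else v % 9) (by split_ifs <;> omega)).1
  rw [acN_eq]; omega

theorem ac_v (g : Ga) (v : Hs) : (ac g v).v = acN g.v v.v := Nat.mod_eq_of_lt (acN_lt _ _)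

theorem ac_map (g : Ga) (v w : Hs) : ac g (v * w) = ac g v * ac g w := by
  refine TG.ext ?_
  change _ = TQ.mu (ac g v).v (ac g w).v
  rw [ac_v, ac_v, ac_v]
  change acN _ (TQ.mu v.v w.v) = _
  generalize g.v = g, v.v = v, w.v = w
  have m1 : g % 24 + 24 * (g / 576 % 2) < 48 := by omega
  have m2 : g / 24 % 24 + 24 * (g / 576 % 2) < 48 := by omega
  have d1 : (g % 24 + 24 * (g / 576 % 2)) / 24 = g / 576 % 2 := by omega
  have d2 : (g / 24 % 24 + 24 * (g / 576 % 2)) / 24 = g / 576 % 2 := by omega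
  have e2 : g / 576 % 2 < 2 := by omega
  have l : ∀ x, x % 9 < 9 := fun x => Nat.mod_lt _ (by norm_num)
  rw [acN_eq, acN_eq, acN_eq, mu_eq v w]
  generalize g % 24 + 24 * (g / 576 % 2) = m at *
  generalize g / 24 % 24 + 24 * (g / 576 % 2) = n at *
  generalize g / 576 % 2 = ε at *
  obtain ⟨p1, p2, p3⟩ := dec3 (z := (v / 81 + w / 81 + (om9 (v % 9) (w % 9) +
    om9 (v / 9 % 9) (w / 9 % 9))) % 3) (tab9.1 _ (l v) _ (l w)) (tab9.1 _ (l (v / 9)) _ (l (w / 9)))
  rw [p1, p2, p3, mu_eq]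
  have q : ∀ a < 9, ∀ b < 9, ∀ z, _ := fun a ha b hb z =>
    dec3 (z := z) (tab9.2 m m1 a ha).1 (tab9.2 n m2 b hb).1
  split_ifs
  all_goals
    rw [(q _ (l _) _ (l _) _).1, (q _ (l _) _ (l _) _).1, (q _ (l _) _ (l _) _).2.1,
      (q _ (l _) _ (l _) _).2.1, (q _ (l _) _ (l _) _).2.2, (q _ (l _) _ (l _) _).2.2,
      ((tab9.2 m m1 _ (l _)).2 _ (l _)).1, ((tab9.2 n m2 _ (l _)).2 _ (l _)).1,
      ((tab9.2 m m1 _ (l _)).2 _ (l _)).2, ((tab9.2 n m2 _ (l _)).2 _ (l _)).2, d1, d2]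
    generalize om9 (v % 9) (w % 9) = x, om9 (v / 9 % 9) (w / 9 % 9) = y
    interval_cases ε <;> omega

/-- the action as a homomorphism -/
noncomputable def acH (g : Ga) : Hs →* Hs := MonoidHom.mk' (ac g) (ac_map g)

theorem Hs_dec (v : Hs) : ∃ k : ℕ, v = e 1 ^ Nat.mod v.v 3 * e 3 ^ Nat.mod (Nat.div v.v 3) 3 *
    (e 9 ^ Nat.mod (Nat.div v.v 9) 3 * e 27 ^ Nat.mod (Nat.div v.v 27) 3) * e 81 ^ k := by
  obtain ⟨k, -, h⟩ := (bd! : ∀ v : Hs, ∃ k ∈ [0, 1, 2], v = e 1 ^ Nat.mod v.v 3 *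
    e 3 ^ Nat.mod (Nat.div v.v 3) 3 * (e 9 ^ Nat.mod (Nat.div v.v 9) 3 *
      e 27 ^ Nat.mod (Nat.div v.v 27) 3) * e 81 ^ k) v
  exact ⟨k, h⟩

theorem Hs_ext {G : Type*} [Group G] {f g : Hs →* G}
    (h : ∀ v ∈ (es [1, 3, 9, 27] : List Hs), f v = g v) (v : Hs) : f v = g v := by
  have m : ∀ v ∈ (es [1, 3, 9, 27] : List Hs), v ∈ f.eqLocus g := h
  have a := m (e 1) bd!
  have b := m (e 3) bd!
  have c := m (e 9) bd!
  have d := m (e 27) bd!
  obtain ⟨k, hk⟩ := Hs_dec v
  rw [hk]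
  refine mul_mem (mul_mem (mul_mem (pow_mem a _) (pow_mem b _)) (mul_mem (pow_mem c _)
    (pow_mem d _))) (pow_mem (S := f.eqLocus g) ?_ _)
  rw [(bd! : (e 81 : Hs) = e 1 * e 3 * (e 1)⁻¹ * (e 3)⁻¹)]
  exact mul_mem (mul_mem (mul_mem a b) (inv_mem a)) (inv_mem b)

theorem ac_mul (g h : Ga) (v : Hs) : ac (g * h) v = ac g (ac h v) := by
  have mul : ∀ x y : Ga, (∀ h v, ac (x * h) v = ac x (ac h v)) →
      (∀ h v, ac (y * h) v = ac y (ac h v)) → ∀ h v, ac (x * y * h) v = ac (x * y) (ac h v) :=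
    fun x y a b h v => by simp only [mul_assoc, a, b]
  have one : ∀ h v, ac (1 * h) v = ac 1 (ac h v) := by simp [ac_one]
  have hg : g ∈ closure {g : Ga | g ∈ (es [8, 2, 576, 1152] : List Ga)} := gen_Ga ▸ mem_top g
  revert h v
  induction hg using closure_induction with
  | mem x hx =>
    exact fun h => Hs_ext (f := acH (x * h)) (g := (acH x).comp (acH h))
      ((bd! : ∀ g ∈ (es [8, 2, 576, 1152] : List Ga), ∀ h, ∀ v ∈ (es [1, 3, 9, 27] : List Hs),
        ac (g * h) v = ac g (ac h v)) x hx h)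
  | one => exact one
  | mul x y _ _ a b => exact mul x y a b
  | inv x _ a =>
    rw [inv_eq_of_mul_eq_one_right (a := x) (b := x ^ (orderOf x - 1)) (by
      rw [← pow_succ', Nat.sub_add_cancel (orderOf_pos x), pow_orderOf_eq_one])]
    induction orderOf x - 1 with
    | zero => simpa using one
    | succ n ih => rw [pow_succ]; exact mul _ _ ih a

theorem ac_faith : ∀ g : Ga, (∀ v ∈ (es [1, 3, 9, 27] : List Hs), ac g v = v) → g = 1 := bd!

theorem Hs_cube : ∀ v : Hs, v ^ 3 = 1 := bd!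

/-- the subgroup `Q₈ × Q₈` -/
abbrev QQ (g : Ga) : Prop := g.v < 192 ∧ (e (Nat.mod g.v 24) : Ga).v < 8

/-- the element with prescribed images of `a₁, b₁, a₂, b₂` (of `a₂, b₂, a₁, b₁` if `s = 1`) -/
noncomputable def mkG (s x y x' y' : ℕ) : Ga :=
  e (force (t16 (nat_lit 0x7002b001e00000012000900200000001d0000000b000000040022001100280000001500270000000e002c00000001001800000005000000230000001c000a0029001000000000001f001300060000002a002100080000002d000f00000026001400000019000000000025002f001b0016000c0002000000000000000d00170003002e0024001a000000000000000000000000000000000000000000000000) (Nat.add x (Nat.mul 9 y))) fun m =>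
    Nat.add (Nat.add (Nat.mod m 24) (Nat.mul 24 (Nat.mod (t16 (nat_lit 0x7002b001e00000012000900200000001d0000000b000000040022001100280000001500270000000e002c00000001001800000005000000230000001c000a0029001000000000001f001300060000002a002100080000002d000f00000026001400000019000000000025002f001b0016000c0002000000000000000d00170003002e0024001a000000000000000000000000000000000000000000000000)
      (Nat.add x' (Nat.mul 9 y'))) 24))) (Nat.mul 576 (Nat.add (Nat.div m 24) (Nat.mul 2 s))))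

end Cfsg.Agent.F4L
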